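import Cfsg.Agent.H75.MinDeg.ClassRel
import Cfsg.Agent.H75.MinDeg.Check
import Cfsg.Agent.H75.TwistGen.Core
import Cfsg.Agent.H46.TwistE6

/-!
# The certificate of type ²E₆
-/

set_option autoImplicit false
set_option maxRecDepth 100000

namespace Cfsg.Agent.H75.MinDeg

open Cfsg.Lie Cfsg.Agent.H46 Cfsg.Agent.H75.TwistGen

/-- The data of one term: the root, the Lagrangian, the derivation, the translations, the fixed roots, the word. -/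
structure Row where
  /-- the root -/
  r : ℕ
  /-- the Lagrangian with partners -/
  L : List (ℕ × ℕ)
  /-- the derivation -/
  steps : List (ℕ × ℕ × ℕ)
  /-- the translations -/
  M : List (ℕ × ℕ)
  /-- the roots kept fixed -/
  T : List ℕ
  /-- the word moving the root to the highest one -/
  w : List (Fin 4)

/-- A Lagrangian with partners. -/
def lag0 : List (ℕ × ℕ) :=
  [(46, 70), (47, 69), (48, 66), (49, 55), (51, 65), (52, 54), (53, 63)]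

/-- Its derivation. -/
def steps0 : List (ℕ × ℕ × ℕ) :=
  [(11, 12, 15), (13, 12, 37), (1, 6, 27), (12, 13, 29), (2, 3, 29), (6, 3, 37), (15, 14, 37), (27, 28, 29), (32, 28, 37)]

/-- A Lagrangian with partners. -/
def lag1 : List (ℕ × ℕ) :=
  [(46, 70), (47, 69), (48, 66), (49, 55), (51, 65), (52, 54), (63, 53)]

/-- Its derivation. -/
def steps1 : List (ℕ × ℕ × ℕ) :=
  [(11, 12, 15), (27, 12, 36), (13, 12, 37), (28, 12, 38), (12, 13, 29), (1, 2, 32), (2, 3, 29), (6, 3, 37), (18, 4, 38), (32, 13, 38)]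

/-- The terms. -/
def rowsE6 : List Row :=
  [⟨71, lag0, steps0, [(46, 70), (47, 69), (48, 66), (49, 55), (51, 65), (52, 54), (53, 63)], [], []⟩,
    ⟨70, lag0, steps0, [(46, 70), (47, 69), (48, 66), (49, 55), (51, 65), (52, 54)], [53], [0, 1, 2, 3]⟩,
    ⟨69, lag0, steps0, [(46, 70), (47, 69), (48, 66), (49, 55), (52, 54)], [51, 53], [0, 1, 2, 3, 1, 2]⟩,
    ⟨65, lag0, steps0, [(46, 70), (47, 69), (49, 55), (52, 54)], [11, 51, 53], [0, 1, 2, 3, 1, 2, 0, 1]⟩,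
    ⟨63, lag0, steps0, [(46, 70), (49, 55), (52, 54)], [11, 47, 51, 53], [0, 1, 2, 3, 1, 2, 0, 1, 2]⟩,
    ⟨53, lag0, steps0, [(47, 69), (49, 55), (53, 63)], [6, 11, 32, 46, 51], [2, 0, 1, 2, 3, 0, 1, 2, 1, 0]⟩,
    ⟨60, lag0, steps0, [(49, 55), (52, 54)], [6, 11, 15, 46, 47, 51, 53], [0, 1, 2, 3, 1, 2, 0, 1, 2, 3, 2]⟩,
    ⟨51, lag0, steps0, [(47, 69), (49, 55)], [1, 6, 11, 13, 32, 46, 51, 53], [2, 0, 1, 2, 3, 1, 2, 0, 1, 2, 1, 0]⟩,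
    ⟨44, lag0, steps0, [(49, 55)], [1, 6, 11, 13, 32, 46, 47, 51, 53], [0, 1, 2, 3, 1, 2, 0, 1, 2, 3, 2, 1, 0]⟩,
    ⟨47, lag0, steps0, [(53, 63)], [1, 2, 6, 11, 27, 32, 46, 47, 51], [2, 1, 2, 0, 1, 2, 3, 1, 2, 0, 1, 2, 0, 1]⟩,
    ⟨39, lag0, steps0, [], [1, 2, 6, 11, 27, 32, 46, 47, 51, 53], [0, 1, 2, 3, 1, 2, 0, 1, 2, 3, 2, 1, 2, 0, 1]⟩,
    ⟨46, lag1, steps1, [], [1, 2, 6, 11, 18, 27, 32, 46, 47, 51, 63], [2, 1, 2, 0, 1, 2, 3, 2, 1, 2, 0, 1, 2]⟩]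

/-- A word moving each root to a simple one. -/
def wordsE6 : List (List (Fin 4)) :=
  [[2, 3, 1, 2, 0, 1, 2, 3], [2, 3, 1, 2, 0, 1, 2], [2, 3, 1, 2, 0, 1], [0, 1, 2, 3, 1, 2, 1, 0], [0, 1, 2, 3, 1, 2, 1], [0, 1, 2, 3, 1, 2, 1, 0], [2, 3, 1, 2, 0], [0, 1, 2, 3, 1, 2], [2, 3, 1, 0], [0, 1, 2, 3, 1], [0, 1, 2, 3], [2, 1, 0], [0, 1, 2, 1], [0, 1, 2], [0, 1], [0], [0, 1, 2, 3, 1, 2, 1], [0, 1, 2, 3, 1, 2], [2, 3, 1, 2], [0, 1, 2, 3, 1], [2, 3, 1], [1, 2, 3], [0, 1, 2, 3], [1, 2, 3], [2, 3], [3], [0, 1, 2, 1], [2, 1], [1, 2], [1], [0, 1, 2], [1, 2], [2], [0, 1], [1], [0], [], [], [0], [], [2], [1, 2], [], [2], [1], [1, 2, 1], [], [2], [2, 3], [1, 2, 3], [2, 3], [2, 1], [1, 2, 3, 1], [2, 1, 2], [1, 2, 3, 1, 2], [1, 2, 3, 1, 2, 1], [], [0], [1, 2], [1, 2, 1], [1, 0], [1, 2, 3], [1, 2, 3, 1], [2, 1, 0], [1, 2, 3, 1, 2], [2, 1, 2, 0], [1, 2, 3, 1, 2, 1, 0], [1, 2, 3,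 1, 2, 1], [1, 2, 3, 1, 2, 1, 0], [2, 1, 2, 0, 1], [2, 1, 2, 0, 1, 2], [2, 1, 2, 0, 1, 2, 3]]

/-- The table of type ²E₆. -/
def tabE6 : Tab where
  sw := sw? chevE6 graphE6.S.π graphE6.S.ε
  exact := exact? chevE6 graphE6.S.π graphE6.S.ε

theorem symE6_ok : chkSym chevE6 graphE6.S.π graphE6.S.ε = true := by decide +kernel

theorem epsE6_fixed : ∀ r < 72, graphE6.S.π r = r → graphE6.S.ε r = 1 := by decide +kernel

theorem rowsE6_valid : ∀ R ∈ rowsE6,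
    tabE6.lagB 71 R.L && tabE6.stepsB 71 R.L R.steps (R.L.map Prod.fst) && tabE6.shiftB 71 R.M R.T &&
      Tab.subB (R.M.map Prod.fst ++ R.T) (R.steps.map Prod.fst ++ R.L.map Prod.fst) = true := by decide +kernel

theorem lagsE6_valid : tabE6.shiftB 71 lag0 [] = true ∧ tabE6.shiftB 71 lag1 [] = true := by decide +kernel

theorem rowsE6_lag : ∀ R ∈ rowsE6, R.L = lag0 ∨ R.L = lag1 := by decide +kernel

/-- The image of a root under a word. -/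
def act (w : List (Fin 4)) (r : ℕ) : ℕ :=
  if h : r < chevE6.nroots then (twAct graphE6 goodE6 w ⟨r, h⟩).val else 0

theorem rowsE6_act : ∀ R ∈ rowsE6, R.r < 72 ∧ graphE6.S.π R.r = R.r ∧ act R.w R.r = 71 := by decide +kernel

theorem rowsE6_prior : ∀ i < 12, ∀ j < i,
    act (rowsE6.getD i ⟨0, [], [], [], [], []⟩).w (rowsE6.getD j ⟨0, [], [], [], [], []⟩).r ∈
      (rowsE6.getD i ⟨0, [], [], [], [], []⟩).T ∧
    graphE6.S.π (act (rowsE6.getD i ⟨0, [], [], [], [], []⟩).w (rowsE6.getD j ⟨0, [], [], [], [], []⟩).r) =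
      act (rowsE6.getD i ⟨0, [], [], [], [], []⟩).w (rowsE6.getD j ⟨0, [], [], [], [], []⟩).r := by
  decide +kernel

theorem wordsE6_ok : ∀ r < 72, ∃ j : Fin 4, act (wordsE6.getD r []) r ∈ (graphE6.orb j).map (fun k : Fin chevE6.rank => chevE6.simple k) ∧
    act (wordsE6.getD r []) (graphE6.S.π r) ∈ (graphE6.orb j).map (fun k : Fin chevE6.rank => chevE6.simple k) := by
  decide +kernel

end Cfsg.Agent.H75.MinDeg
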